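import Groth.Agent.L12.T1Power
import Groth.Agent.L12.Criteria

/-! # The T¹-lifting principle for functors of Artin rings -/

set_option autoImplicit false

universe u v

open IsLocalRing MvPolynomial CategoryTheory ArtFun ArtFun.Art
open Groth.L12.T1Power (pderiv_mem eq_zero_of_pderiv aeval_inl_add_inr exists_art_pow pow_le_ker)
open Groth.L12

namespace Groth.L14.T1Fin

variable {k : Type u} [Field k] {R : Type u} [CommRing R] [IsLocalRing R] [IsNoetherianRing R] [Algebra k R]

/-- The T¹-lifting property, for a single local algebra. -/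
def T1 (k : Type u) [Field k] (R : Type u) [CommRing R] [Algebra k R] : Prop :=
  ∀ (A : ArtFun.Art k k) (M M' : Type u) [AddCommGroup M] [Module (↥A) M] [Module (↥A)ᵐᵒᵖ M]
      [IsCentralScalar (↥A) M] [Module k M] [IsScalarTower k (↥A) M] [IsScalarTower k (↥A)ᵐᵒᵖ M]
      [AddCommGroup M'] [Module (↥A) M'] [Module (↥A)ᵐᵒᵖ M'] [IsCentralScalar (↥A) M'] [Module k M']
      [IsScalarTower k (↥A) M'] [IsScalarTower k (↥A)ᵐᵒᵖ M'] [Module.Finite (↥A) M] [Module.Finite (↥A) M'] (f : M' →ₗ[↥A] M),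
      Function.Surjective f →
        ∀ φ : R →ₐ[k] TrivSqZeroExt (↥A) M,
          ∃ ψ : R →ₐ[k] TrivSqZeroExt (↥A) M',
            ∀ r : R, (ψ r).fst = (φ r).fst ∧ f (ψ r).snd = (φ r).snd

theorem step [CharZero k] (H : T1 k R) (resR : R →ₐ[k] k) {d : ℕ} (x : Fin d → R)
    (hx : Ideal.span (Set.range x) = maximalIdeal R) (e : ℕ) (he : 1 ≤ e)
    (ih : ∀ p : MvPolynomial (Fin d) k, aeval x p ∈ maximalIdeal R ^ (e + 1) → p ∈ idealOfVars (Fin d) k ^ (e + 1))
    {g : MvPolynomial (Fin d) k} (hg : aeval x g ∈ maximalIdeal R ^ (e + 2)) :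
    g ∈ idealOfVars (Fin d) k ^ (e + 2) := by
  classical
  obtain ⟨A, π, hπs, hπk⟩ := exists_art_pow resR e
  let ev : MvPolynomial (Fin d) k →ₐ[k] A := π.comp (aeval x)
  have hev : ev = aeval (fun i => π (x i)) := comp_aeval x π
  have hker : ∀ p ∈ idealOfVars (Fin d) k ^ (e + 1), ev p = 0 := fun p hp => by
    have := RegJets.aeval_mem_span_pow x hp
    rw [hx, ← hπk] at this
    exact this
  let S : Set (Fin d → A) := (fun p => fun i => ev (pderiv i p)) '' {p | aeval x p ∈ maximalIdeal R ^ (e + 2)}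
  let N : Submodule A (Fin d → A) := Submodule.span A S
  let w : Fin d → Fin d → A := fun i => Pi.single i 1
  let φ0 : MvPolynomial (Fin d) k →ₐ[k] TrivSqZeroExt A ((Fin d → A) ⧸ N) :=
    aeval fun i => TrivSqZeroExt.inl (π (x i)) + TrivSqZeroExt.inr (N.mkQ (w i))
  let π' : MvPolynomial (Fin d) k →ₐ[k] R ⧸ maximalIdeal R ^ (e + 2) := (Ideal.Quotient.mkₐ k _).comp (aeval x)
  have hπ' : Function.Surjective π' := fun z => by
    obtain ⟨a, rfl⟩ := Ideal.Quotient.mk_surjective z
    obtain ⟨p, hp⟩ := RegJets.exists_approx resR x hx (e + 2) a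
    exact ⟨p, (Ideal.Quotient.eq.2 hp).symm⟩
  have hsum : ∀ (c : Fin d → A), ∑ i, c i • w i = c := fun c => by
    funext j
    simp [w, Finset.sum_apply, Pi.single_apply]
  have hle : RingHom.ker π' ≤ RingHom.ker φ0 := by
    intro p hp
    have hp' : aeval x p ∈ maximalIdeal R ^ (e + 2) := Ideal.Quotient.eq_zero_iff_mem.1 hp
    have h0 : ev p = 0 := by
      have : aeval x p ∈ RingHom.ker π := hπk ▸ Ideal.pow_le_pow_right (by omega) hp'
      exact this
    have h1 : ∑ i, ev (pderiv i p) • N.mkQ (w i) = 0 := by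
      rw [Finset.sum_congr rfl fun i _ => ((N.mkQ).map_smul (ev (pderiv i p)) (w i)).symm, ← map_sum, hsum,
        Submodule.mkQ_apply, Submodule.Quotient.mk_eq_zero]
      exact Submodule.subset_span ⟨p, hp', rfl⟩
    rw [RingHom.mem_ker]
    change aeval _ p = 0
    rw [aeval_inl_add_inr, ← hev, h0, h1]
    simp
  let φ : R →ₐ[k] TrivSqZeroExt A ((Fin d → A) ⧸ N) :=
    (AlgHom.liftOfSurjective π' hπ' φ0 hle).comp (Ideal.Quotient.mkₐ k _)
  have hφx : ∀ i, φ (x i) = TrivSqZeroExt.inl (π (x i)) + TrivSqZeroExt.inr (N.mkQ (w i)) := fun i => by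
    have h := DFunLike.congr_fun (AlgHom.liftOfSurjective_comp π' hπ' φ0 hle) (X i)
    simpa [π', φ0, φ] using h
  obtain ⟨ψ, hψ⟩ := H A ((Fin d → A) ⧸ N) (Fin d → A) N.mkQ N.mkQ_surjective φ
  let w' : Fin d → Fin d → A := fun i => (ψ (x i)).snd
  have hψx : ψ.comp (aeval x) = aeval fun i => TrivSqZeroExt.inl (π (x i)) + TrivSqZeroExt.inr (w' i) := by
    rw [comp_aeval]
    congr 1
    funext i
    refine TrivSqZeroExt.ext ?_ (by simp [w'])
    rw [(hψ (x i)).1, hφx]
    simp
  have hδ : ∀ i, w' i - w i ∈ N := fun i => by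
    rw [← Submodule.Quotient.eq]
    have := (hψ (x i)).2
    rw [hφx] at this
    simpa [w'] using this
  have hψ0 : ψ (aeval x g) = 0 := by
    refine RingHom.mem_ker.1 (pow_le_ker x hx ψ (e + 2) (fun p hp => ?_) hg)
    rw [← AlgHom.comp_apply, hψx, aeval_inl_add_inr, ← hev,
      hker p (Ideal.pow_le_pow_right (by omega) hp)]
    simp [fun i => hker _ (pderiv_mem i hp)]
  rw [← AlgHom.comp_apply, hψx, aeval_inl_add_inr, ← hev] at hψ0
  have h2 : ∑ i, ev (pderiv i g) • w' i = 0 := by simpa using congrArg TrivSqZeroExt.snd hψ0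
  have hg1 : g ∈ idealOfVars (Fin d) k ^ (e + 1) := ih g (Ideal.pow_le_pow_right (by omega) hg)
  have h3 : ∀ i, ∀ δ ∈ N, ev (pderiv i g) • δ = 0 := by
    intro i δ hδ'
    induction hδ' using Submodule.span_induction with
    | mem v hv =>
      obtain ⟨p, hp, rfl⟩ := hv
      funext j
      rw [Pi.smul_apply, smul_eq_mul, Pi.zero_apply, ← map_mul]
      refine hker _ (Ideal.pow_le_pow_right (by omega : e + 1 ≤ e + e) ?_)
      rw [pow_add]
      have hp1 : p ∈ idealOfVars (Fin d) k ^ (e + 1) :=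
        ih p (Ideal.pow_le_pow_right (by omega : e + 1 ≤ e + 2) hp)
      exact Ideal.mul_mem_mul (pderiv_mem i hg1) (pderiv_mem j hp1)
    | zero => rw [smul_zero]
    | add u v _ _ hu hv => rw [smul_add, hu, hv, add_zero]
    | smul a u _ hu => rw [smul_comm, hu, smul_zero]
  have h4 : (fun i => ev (pderiv i g)) = 0 := by
    rw [← hsum (fun i => ev (pderiv i g)), ← h2]
    refine Finset.sum_congr rfl fun i _ => ?_
    have := h3 i _ (hδ i)
    rw [smul_sub, sub_eq_zero] at this
    exact this.symm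
  refine eq_zero_of_pderiv (Nat.succ_ne_zero e) hg1 fun i => ih _ ?_
  have h5 : aeval x (pderiv i g) ∈ RingHom.ker π := congrFun h4 i
  rwa [hπk] at h5

/-- In characteristic zero, T¹-lifting makes the associated graded ring polynomial. -/
theorem exists_indep [CharZero k] (H : T1 k R) (resR : R →ₐ[k] k) :
    ∃ (d : ℕ) (x : Fin d → R), Ideal.span (Set.range x) = maximalIdeal R ∧
      ∀ (N : ℕ) (p : MvPolynomial (Fin d) k), aeval x p ∈ maximalIdeal R ^ N → p ∈ idealOfVars (Fin d) k ^ N := by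
  classical
  obtain ⟨d, x, hxm, hgen, hmin⟩ := Groth.L12.exists_minimal_gens (maximalIdeal R ^ 2)
  have hspan : Ideal.span (Set.range x) = maximalIdeal R := by
    refine le_antisymm (Ideal.span_le.2 (Set.range_subset_iff.2 hxm)) ?_
    exact Groth.L01.maximalIdeal_le_of_le_sup_sq hgen
  refine ⟨d, x, hspan, ?_⟩
  intro N
  induction N with
  | zero => simp
  | succ N ih =>
    intro p hp
    match N with
    | 0 =>
      rw [mem_pow_idealOfVars_iff']
      intro m hm
      obtain rfl : m = 0 := (Finsupp.degree_eq_zero_iff m).1 (by omega)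
      rw [zero_add, pow_one, mem_maximalIdeal_of_res resR, ← AlgHom.comp_apply, comp_aeval] at hp
      have : (fun i => resR (x i)) = 0 := funext fun i => (mem_maximalIdeal_of_res resR _).1 (hxm i)
      rw [this] at hp
      simpa [constantCoeff_eq] using hp
    | 1 =>
      have h1 : p ∈ idealOfVars (Fin d) k := by
        simpa using ih p (Ideal.pow_le_pow_right (Nat.le_succ 1) hp)
      rw [idealOfVars, Ideal.mem_span_range_iff_exists_fun] at h1
      obtain ⟨c, rfl⟩ := h1
      have h2 : ∀ i, resR (aeval x (c i)) = 0 := fun i => by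
        rw [← mem_maximalIdeal_of_res]
        refine hmin (fun i => aeval x (c i)) ?_ i
        simpa [constantCoeff_eq] using hp
      rw [pow_two]
      refine Ideal.sum_mem _ fun i _ => Ideal.mul_mem_mul ?_ (Ideal.subset_span ⟨i, rfl⟩)
      rw [← pow_one (idealOfVars (Fin d) k), mem_pow_idealOfVars_iff']
      intro m hm
      obtain rfl : m = 0 := (Finsupp.degree_eq_zero_iff m).1 (by omega)
      have h3 := h2 i
      rw [← AlgHom.comp_apply, comp_aeval, show (fun i => resR (x i)) = 0 from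
        funext fun i => (mem_maximalIdeal_of_res resR _).1 (hxm i)] at h3
      simpa [constantCoeff_eq] using h3
    | e + 2 => exact step H resR x hspan (e + 1) (by omega) ih hp

end Groth.L14.T1Fin
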