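import Groth.Agent.L14.T1Fin.Core

/-! # Unobstructedness from T¹-lifting -/

set_option autoImplicit false
set_option linter.style.haveILetI false

universe u v

open IsLocalRing CategoryTheory ArtFun ArtFun.Art
open Groth.L12

namespace Groth.L14.T1Fin

variable {k : Type u} [Field k]

theorem isLocalRing_tsze (A : Art k k) (M : Type u) [AddCommGroup M] [Module A M] [Module (↥A)ᵐᵒᵖ M]
    [IsCentralScalar A M] : IsLocalRing (TrivSqZeroExt A M) := by
  refine IsLocalRing.of_isUnit_or_isUnit_one_sub_self fun z => ?_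
  rcases IsLocalRing.isUnit_or_isUnit_one_sub_self z.fst with h | h
  · exact Or.inl (TrivSqZeroExt.isUnit_iff_isUnit_fst.2 h)
  · exact Or.inr (TrivSqZeroExt.isUnit_iff_isUnit_fst.2 h)

theorem isArtinianRing_tsze (A : Art k k) (M : Type u) [AddCommGroup M] [Module A M] [Module (↥A)ᵐᵒᵖ M]
    [IsCentralScalar A M] [Module.Finite A M] : IsArtinianRing (TrivSqZeroExt A M) :=
  haveI : Module.Finite A (TrivSqZeroExt A M) := inferInstanceAs (Module.Finite A (A × M))
  IsArtinianRing.of_finite A _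

theorem surjective_map {R : Type u} [CommRing R] [Algebra k R] {M M' : Type u} [AddCommGroup M] [Module R M]
    [Module Rᵐᵒᵖ M] [IsCentralScalar R M] [AddCommGroup M'] [Module R M'] [Module Rᵐᵒᵖ M'] [IsCentralScalar R M']
    (f : M' →ₗ[R] M) (hf : Function.Surjective f) : Function.Surjective (TrivSqZeroExt.map f) := fun z => by
  obtain ⟨m, hm⟩ := hf z.snd
  exact ⟨TrivSqZeroExt.inl z.fst + TrivSqZeroExt.inr m, TrivSqZeroExt.ext (by simp) (by simpa using hm)⟩

theorem eq_res (R : CRing k k) (f : R.carrier →ₐ[k] k) : f = R.res := by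
  refine AlgHom.ext fun r => ?_
  have h1 : r - algebraMap k _ (R.res r) ∈ maximalIdeal R.carrier :=
    (mem_maximalIdeal_of_res R.res _).2 (by rw [map_sub, AlgHom.commutes]; simp)
  have h2 : f (r - algebraMap k _ (R.res r)) = 0 := (mem_maximalIdeal_of_res f _).1 h1
  rw [map_sub, AlgHom.commutes, sub_eq_zero] at h2
  simpa using h2

theorem isSmoothFunctor [CharZero k] (F : Art k k ⥤ Type v) [TangentStr F] (h0 : H0 F)
    (hRS : (∀ ⦃B A A' A'' : ArtFun.Art k k⦄ (p' : B ⟶ A') (p'' : B ⟶ A'') (f' : A' ⟶ A) (f'' : A'' ⟶ A)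
        (h : ArtFun.Art.IsFibreProd p' p'' f' f''), Function.Surjective f'' → Function.Bijective (ArtFun.cmp F h)))
    (hfin : ArtFun.Hfin F)
    (hT1 : ∀ ⦃A A' A'' : ArtFun.Art k k⦄ (π' : A' ⟶ A) (i' : A ⟶ A') (π'' : A'' ⟶ A) (i'' : A ⟶ A'')
        (q : A'' ⟶ A'), i' ≫ π' = 𝟙 A → i'' ≫ π'' = 𝟙 A →
        RingHom.ker π'.toAlgHom * RingHom.ker π'.toAlgHom = ⊥ →
        RingHom.ker π''.toAlgHom * RingHom.ker π''.toAlgHom = ⊥ →
        q ≫ π' = π'' → i'' ≫ q = i' → Function.Surjective q → Function.Surjective (F.map q)) :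
    IsSmoothFunctor F := by
  obtain ⟨P⟩ := Groth.L12.prorep_iff.2 ⟨⟨h0, hRS⟩, hfin, fun x₀ σ τ _ =>
    Art.hom_ext (AlgHom.ext fun (c : k) => (σ.toAlgHom.commutes c).trans (τ.toAlgHom.commutes c).symm)⟩
  have H : T1 k P.ring.carrier := by
    intro A M M' _ _ _ _ _ _ _ _ _ _ _ _ _ _ _ _ f hf φ
    haveI := isLocalRing_tsze A M
    haveI := isLocalRing_tsze A M'
    haveI := isArtinianRing_tsze A M
    haveI := isArtinianRing_tsze A M'
    let A₁ : Art k k := Art.of (TrivSqZeroExt A M) (A.res.comp (TrivSqZeroExt.fstHom k A M))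
      fun c => ⟨algebraMap k _ c, AlgHom.commutes _ c⟩
    let A₂ : Art k k := Art.of (TrivSqZeroExt A M') (A.res.comp (TrivSqZeroExt.fstHom k A M'))
      fun c => ⟨algebraMap k _ c, AlgHom.commutes _ c⟩
    let π₁ : A₁ ⟶ A := ⟨TrivSqZeroExt.fstHom k A M, rfl⟩
    let π₂ : A₂ ⟶ A := ⟨TrivSqZeroExt.fstHom k A M', rfl⟩
    let i₁ : A ⟶ A₁ := ⟨TrivSqZeroExt.inlAlgHom k A M, AlgHom.ext fun _ => rfl⟩
    let i₂ : A ⟶ A₂ := ⟨TrivSqZeroExt.inlAlgHom k A M', AlgHom.ext fun _ => rfl⟩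
    let q : A₂ ⟶ A₁ := ⟨(TrivSqZeroExt.map f).restrictScalars k,
      AlgHom.ext fun z => congrArg A.res (TrivSqZeroExt.fst_map f z)⟩
    have hq : Function.Surjective q := surjective_map (k := k) f hf
    have hsq : ∀ (N : Type u) [AddCommGroup N] [Module A N] [Module (↥A)ᵐᵒᵖ N] [IsCentralScalar A N] [Module k N]
        [IsScalarTower k A N] [IsScalarTower k (↥A)ᵐᵒᵖ N],
        RingHom.ker (TrivSqZeroExt.fstHom k A N) * RingHom.ker (TrivSqZeroExt.fstHom k A N) = ⊥ := by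
      intro N _ _ _ _ _ _ _
      rw [eq_bot_iff, Ideal.mul_le]
      intro a ha b hb
      rw [RingHom.mem_ker, TrivSqZeroExt.fstHom_apply] at ha hb
      exact (Ideal.mem_bot).2 (TrivSqZeroExt.ext (by simp [ha]) (by simp [ha, hb]))
    have hsurj := hT1 π₁ i₁ π₂ i₂ q (Art.hom_ext (AlgHom.ext fun _ => rfl)) (Art.hom_ext (AlgHom.ext fun _ => rfl))
      (hsq M) (hsq M') (Art.hom_ext (AlgHom.ext fun z => TrivSqZeroExt.fst_map f z))
      (Art.hom_ext (AlgHom.ext fun a => TrivSqZeroExt.ext (TrivSqZeroExt.fst_map f _)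
        ((TrivSqZeroExt.snd_map f _).trans (map_zero f)))) hq
    let φ' : HomSet P.ring.carrier P.ring.res A₁ := ⟨φ, eq_res P.ring _⟩
    obtain ⟨y, hy⟩ := hsurj (P.family.app A₁ φ')
    obtain ⟨ψ, rfl⟩ := (P.universal A₂).2 y
    rw [← P.family.natural] at hy
    have h2 := congrArg Subtype.val ((P.universal A₁).1 hy)
    refine ⟨ψ.1, fun r => ?_⟩
    have h3 : TrivSqZeroExt.map f (ψ.1 r) = φ r := DFunLike.congr_fun h2 r
    exact ⟨(TrivSqZeroExt.fst_map f (ψ.1 r)).symm.trans (congrArg TrivSqZeroExt.fst h3),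
      (TrivSqZeroExt.snd_map f (ψ.1 r)).symm.trans (congrArg TrivSqZeroExt.snd h3)⟩
  obtain ⟨d, x, hx, hind⟩ := exists_indep (R := P.ring.carrier) H P.ring.res
  intro B A μ hμ y
  obtain ⟨φ, rfl⟩ := (P.universal A).2 y
  obtain ⟨g, hg⟩ := Groth.L12.RegJets.exists_lift_of_indep P.ring.res x hx hind μ.toAlgHom hμ
    (fun z hz => Groth.L12.isNilpotent_of_res_eq_zero B ((B.mem_maximalIdeal_iff z).1
      (Groth.L12.ker_le_maximalIdeal μ hz))) φ.1
    fun a ha => Groth.L12.isNilpotent_of_res_eq_zero A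
      ((DFunLike.congr_fun φ.2 a).trans ((Groth.L12.mem_maximalIdeal_of_res P.ring.res a).1 ha))
  refine ⟨P.family.app B ⟨g, eq_res P.ring _⟩, ?_⟩
  exact (P.family.natural μ _).symm.trans (congrArg _ (Subtype.ext hg))

end Groth.L14.T1Fin
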